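import Cfsg.Agent.Lib.GW2.Fin
import Cfsg.Agent.Lib.GW2.Kfp
import Cfsg.Agent.Lib.GW2.IV
import Cfsg.Agent.Lib.GW2.W1
import Cfsg.Agent.Lib.CIT.PSL2
import Cfsg.Agent.Lib.Cls.Solv

/-!
# Elements with centralizers of odd order in groups with abelian or dihedral Sylow 2-subgroups
-/

set_option autoImplicit false

namespace Cfsg.Agent.CS2

open Subgroup Cfsg.Agent.OO Cfsg.Agent.Coprime Cfsg.Agent.R1 GW GW2
open scoped Pointwise MatrixGroups

universe u

variable {G : Type u} [Group G] [Finite G]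

theorem of_prime {l : ℕ} (hl : l.Prime) (hd : l ∣ Nat.card G)
    (h : ∀ a x : G, a ≠ 1 → a * a = 1 → orderOf x = l → x ∉ 𝐂[a]) :
    ∃ x : G, (orderOf x).Prime ∧ Odd ♯𝐂[x] := by
  have := Fact.mk hl
  obtain ⟨x, rfl⟩ := exists_prime_orderOf_dvd_card' l hd
  exact ⟨x, hl, odd_of_forall fun a ha a2 => by_contra fun a1 => h a x a1 a2 rfl (mem_cent1_comm.1 ha)⟩

omit [Finite G] in
theorem psl_odd {F : Type} [Field F] [Fintype F] (ho : Odd (Fintype.card F)) (e : G ≃* PSL(2, F)) :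
    ∃ x : G, (orderOf x).Prime ∧ Odd ♯𝐂[x] := by
  obtain ⟨p, hp⟩ := CharP.exists F
  obtain ⟨n, pp, hq⟩ := FiniteField.card F p
  have := Fact.mk pp
  have h2 : (2 : F) ≠ 0 := fun e => by
    obtain rfl := (Nat.prime_dvd_prime_iff_eq pp Nat.prime_two).1
      ((CharP.cast_eq_zero_iff F p 2).1 (by exact_mod_cast e))
    exact ho.not_two_dvd_nat (hq ▸ dvd_pow_self 2 n.ne_zero)
  obtain ⟨x, hx⟩ : ∃ x : SL(2, F), x.1 = !![1, 1; 0, 1] := ⟨⟨_, by simp⟩, rfl⟩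
  have ht : x.1.trace = 2 := by rw [hx, Matrix.trace_fin_two_of]; norm_num
  have hz : x ∉ center SL(2, F) := fun h => by
    obtain ⟨z, h7⟩ := Lin.SL2.mem_center_iff_scalar.1 h
    simpa [hx] using congrFun (congrFun h7 0) 1
  have ho : orderOf (x : PSL(2, F)) = p := orderOf_eq_prime (by
    rw [← QuotientGroup.mk_pow, show x ^ p = 1 from Subtype.ext (by
      rw [Fi.up_pow hx, CharP.cast_eq_zero, zero_mul]; exact Matrix.one_fin_two.symm)]; rfl)
    (mt (QuotientGroup.eq_one_iff x).1 hz)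
  refine ⟨e.symm x, by rwa [MulEquiv.orderOf_eq, ho], ?_⟩
  have : Finite G := Finite.of_equiv _ e.symm.toEquiv
  refine odd_of_forall fun a ha a2 => e.injective ?_
  have h1 : e a ∈ 𝐂[(x : PSL(2, F))] := mem_cent1.2 (by simpa using congrArg e (mem_cent1.1 ha))
  rw [CIT.cent_eq_map (.inl (by rw [ht]; exact mul_ne_zero h2 h2))] at h1
  obtain ⟨y, hy, e1⟩ := h1
  have h3 := CIT.trace_sq_of_cent hz (by rw [ht]; norm_num) hy
  rw [map_one, ← e1]
  refine (QuotientGroup.eq_one_iff y).2 (CIT.mem_center_of_sq (fun e2 => ?_)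
    ((QuotientGroup.eq_one_iff _).1 ?_))
  · rw [e2] at h3
    exact mul_ne_zero h2 h2 (by linear_combination -h3)
  · rw [QuotientGroup.mk_mul, show (y : PSL(2, F)) = e a from e1, ← map_mul, a2, map_one]

theorem jr_odd {t : G} {H L : Subgroup G} {F : Type} [Field F] [Fintype F] (j : JRs t H L F) :
    ∃ x : G, (orderOf x).Prime ∧ Odd ♯𝐂[x] := by
  obtain rfl := w1 G t H L F j
  obtain ⟨c, hc⟩ : ∃ c, Fintype.card F = c + 1 := ⟨_, (Nat.sub_add_cancel Fintype.card_pos).symm⟩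
  obtain ⟨l, hl, h1, h2⟩ : ∃ l : ℕ, l.Prime ∧ l ∣ Nat.card G ∧ ¬ l ∣ (c + 1) * (c * (c + 2)) := by
    rcases JR.jr G t H H F j with ⟨e1, e⟩ | ⟨k, -, e, e1, -⟩
    · obtain rfl : c = 4 := by omega
      exact ⟨7, by norm_num, by rw [e]; norm_num, by norm_num⟩
    have h3 : 3 ∣ c + 1 := hc ▸ e ▸ dvd_pow_self 3 (by omega)
    obtain ⟨l, hl, h1⟩ := Nat.exists_prime_and_dvd (n := c * (c + 1) + 1) (by
      have := j.five; nlinarith)
    have := Fact.mk Nat.prime_three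
    obtain ⟨P⟩ : Nonempty (Sylow 3 G) := inferInstance
    have k : ∀ a, l ∣ a → ¬ l ∣ a + 1 := fun a h h' =>
      hl.one_lt.ne' (Nat.dvd_one.1 ((Nat.dvd_add_right h).1 h'))
    refine ⟨l, hl, h1.trans (Dvd.dvd.trans ⟨c + 2, by rw [e1, hc]; ring⟩
      (P.card_dvd_index.trans (index_dvd_card _))), fun h => ?_⟩
    rcases hl.dvd_mul.1 h with h | h
    · exact k _ (h.mul_left c) h1
    rcases hl.dvd_mul.1 h with h | h
    · exact k _ (h.mul_right _) h1
    have h4 : l ∣ 3 := (Nat.dvd_add_right (h.mul_left (c - 1))).1 (by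
      obtain ⟨d, rfl⟩ : ∃ d, c = d + 1 := ⟨c - 1, by have := j.five; omega⟩
      rwa [show (d + 1 - 1) * (d + 1 + 2) + 3 = (d + 1) * (d + 1 + 1) + 1 by
        rw [Nat.add_sub_cancel]; ring])
    obtain rfl := (Nat.prime_dvd_prime_iff_eq hl Nat.prime_three).1 h4
    omega
  refine of_prime hl h1 fun a x a1 a2 ho hx => h2 ?_
  obtain ⟨g, rfl⟩ := isConj_iff.1 (j.conj a a1 a2)
  have h3 : g * x * g⁻¹ ∈ 𝐂[g * a * g⁻¹] := cent1_conj g a ▸ conj_mem_conj hx
  have h4 : l ∣ 2 * ♯H := by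
    rw [← ho, ← orderOf_conj g x, orderOf_dvd_iff_pow_eq_one, pow_mul]
    refine orderOf_dvd_iff_pow_eq_one.1 (orderOf_dvd_card ?_)
    rcases (j.cent _).1 (mem_cent1.1 h3) with h | h
    · exact pow_mem h 2
    · have := pow_mem h 2
      rwa [Commute.mul_pow (mem_cent1.1 h3), sq (g * a * g⁻¹), j.t2, mul_one] at this
  obtain ⟨e⟩ := j.iso
  rcases hl.dvd_mul.1 h4 with h | h
  · obtain rfl := (Nat.prime_dvd_prime_iff_eq hl Nat.prime_two).1 h
    rw [← mul_assoc, mul_comm (c + 1)]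
    exact (Nat.even_mul_succ_self c).two_dvd.mul_right _
  · have := h.trans ((Nat.card_congr e.toEquiv).dvd.trans (card_quotient_dvd_card _))
    rwa [Lin.card_SL2, hc] at this

theorem simple_odd (hs : IsSimpleGroup G) (hn : ¬ IsMulCommutative G) (hQ : Ab2 G ∨ DH G) :
    ∃ x : G, (orderOf x).Prime ∧ Odd ♯𝐂[x] := by
  rcases hQ with hQ | hQ
  · rcases SEA.walter JR.jr G hs hn hQ with ⟨n, h2, ⟨e⟩⟩ | ⟨F, _, _, -, h5, ⟨e⟩⟩ | ⟨t, H, L, F, _, _, j⟩
    · have hC := BSW.ca2_SL2.of_injective (e.trans BSW.pslEquiv).toMonoidHom (MulEquiv.injective _)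
      obtain ⟨l, hl, h1, l2⟩ : ∃ l : ℕ, l.Prime ∧ l ∣ Nat.card G ∧ l ≠ 2 := by
        by_contra! h
        obtain ⟨k, hk⟩ := Cls.eq_pow_of_forall_prime_eq (Nat.card_pos (α := G)).ne' h
        have := Fact.mk Nat.prime_two
        have := (IsPGroup.of_card hk).isNilpotent
        exact hn ⟨⟨IsSimpleGroup.comm_iff_isSolvable.2 inferInstance⟩⟩
      exact of_prime hl h1 fun a x a1 a2 ho hx => l2 ((Nat.prime_dvd_prime_iff_eq hl Nat.prime_two).1
        (ho ▸ orderOf_dvd_of_pow_eq_one (by rw [sq]; exact hC.el a x a1 a2 (mem_cent1.1 hx))))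
    · exact psl_odd (Nat.odd_iff.2 (by omega)) e
    · exact jr_odd j
  rcases gwd_of_iv iv G ⊤ hQ smp_top (fun e => hn ⟨⟨fun a b => ab_iff.1 e a trivial b trivial⟩⟩) with
    ⟨F, _, _, -, h5, ⟨e⟩⟩ | e
  · exact psl_odd h5 (topEquiv.symm.trans e)
  · refine of_prime (l := 7) (by norm_num) (by rw [← card_top, e.card]; norm_num) fun a x a1 a2 ho hx => ?_
    have := orderOf_dvd_card hx
    rw [ho, ← top_inf_eq 𝐂[a], (e.loc a trivial a1 a2).1] at this
    omega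

end Cfsg.Agent.CS2
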