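import Cfsg.Agent.Lib.CS2.Odd
import Cfsg.Agent.Lib.Cls.RealGraph
import Cfsg.Agent.Lib.Reg.Commutator
import Cfsg.Agent.Lib.Wal.K2

/-!
# Class sizes of primary elements in non-solvable groups with small Sylow 2-subgroups
-/

set_option autoImplicit false

namespace Cfsg.Agent.CS2

open Subgroup Cfsg.Agent.OO Cfsg.Agent.Coprime Cfsg.Agent.R1 GW GW2
open scoped Pointwise commutatorElement

universe u

variable {G : Type u} [Group G]

/-- elements of prime power order -/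
def Pr (x : G) : Prop := ∃ r k : ℕ, r.Prime ∧ orderOf x = r ^ k

theorem Pr.of_prime {x : G} (h : (orderOf x).Prime) : Pr x := ⟨_, 1, h, (pow_one _).symm⟩

variable [Finite G] {P : Subgroup G}

theorem Pr.lift {G' : Type*} [Group G'] {f : G →* G'} (hf : Function.Surjective f) {y : G'}
    (h : ∃ r k : ℕ, r.Prime ∧ orderOf y = r ^ k) : ∃ x, f x = y ∧ Pr x := by
  obtain ⟨x, rfl⟩ := hf y
  obtain ⟨r, k, hr, e⟩ := h
  obtain ⟨u, -, e1, j, e2⟩ := Cls.exists_p_lift hr f x ⟨k, e⟩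
  exact ⟨u, e1, r, j, hr, e2⟩

theorem sol_of_index (N : Subgroup G) [N.Normal] (hs : Sol N) (ho : ¬ 2 ∣ N.index) :
    Group.IsSolvable G :=
  have : Sol (⊤ : Subgroup (G ⧸ N)) := sol_of_odd (by
    rw [card_top]; exact Nat.odd_iff.2 (Nat.two_dvd_ne_zero.1 ho))
  Cls.isSolvable_of_normal_of_quotient N hs
    (Group.isSolvable_of_surjective (f := (⊤ : Subgroup (G ⧸ N)).subtype) topEquiv.surjective)

theorem sol_of_odd_index (h : ∀ x : G, Pr x → ¬ 2 ∣ 𝐂[x].index) : Group.IsSolvable G := by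
  have := Fact.mk Nat.prime_two
  by_cases e : 2 ∣ (pCore 2 G).index
  · obtain ⟨x, u, x1, ho, -, e⟩ := Cls.exists_two_inverts e
    obtain ⟨l, hl, e1⟩ := Nat.exists_prime_and_dvd (mt orderOf_eq_one_iff.1 x1)
    have e2 := orderOf_pow_orderOf_div (orderOf_pos x).ne' e1
    refine (h _ (.of_prime (e2.symm ▸ hl)) (RealSyl.two_dvd_of_sq_ne
      (isConj_iff.2 ⟨u, by rw [← conj_pow, e, inv_pow]⟩) fun e3 => ?_)).elim
    exact ho.not_two_dvd_nat ((Nat.prime_dvd_prime_iff_eq hl Nat.prime_two).1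
      (e2 ▸ orderOf_dvd_of_pow_eq_one e3) ▸ e1)
  · exact sol_of_index _ (sol_of_isPGroup (Core.isPGroup_pCore 2)) e

theorem dvd_index {x : G} {k : ℕ} (ho : Odd ♯𝐂[x]) (h : 2 ^ k ∣ Nat.card G) : 2 ^ k ∣ 𝐂[x].index :=
  (Nat.Coprime.pow_left k (Nat.coprime_two_left.2 ho)).dvd_of_dvd_mul_left (by rwa [card_mul_index])

theorem sol_of_dh (hD : DH G) (h : ∀ x : G, Pr x → ¬ 4 ∣ 𝐂[x].index) : Group.IsSolvable G :=
  Cls.isSolvable_of_hereditary (P := fun G _ _ => DH G ∧ ∀ x : G, Pr x → ¬ 4 ∣ 𝐂[x].index)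
    (fun _ _ _ N _ h => ⟨Fi.dh_inj h.1 _ N.subtype_injective, fun x hx e =>
      h.2 x (by simpa [Pr] using hx) (e.trans (Cls.index_centralizer_normal_dvd x))⟩)
    (fun _ _ _ N _ h => ⟨Fi.dh_surj h.1 _ (QuotientGroup.mk'_surjective N), fun y hy e =>
      let ⟨x, e1, hx⟩ := Pr.lift (QuotientGroup.mk'_surjective N) hy
      h.2 x hx (e.trans (e1 ▸ Cls.index_centralizer_map_dvd (QuotientGroup.mk'_surjective N) x))⟩)
    (fun G _ _ hs hn h => by
      obtain ⟨x, hx, ho⟩ := simple_odd hs hn (.inr h.1)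
      obtain ⟨t, -, e, -, f4⟩ := h.1.exists_f4' smp_top
        fun e => hn ⟨⟨fun a b => ab_iff.1 e a trivial b trivial⟩⟩
      exact h.2 x (.of_prime hx) (dvd_index (k := 2) ho (f4.card.symm.dvd.trans (card_subgroup_dvd_card _)))) G ⟨hD, h⟩

theorem dh_of_syl (hP : Syl 2 P ⊤) {a : G} (h1 : ∀ x ∈ P, x ∉ zpowers a → x * x = 1)
    (h2 : ∀ x ∈ P, ∀ y ∈ P, x ∉ zpowers a → y ∉ zpowers a → x * y ∈ zpowers a) : DH G := fun Q hQ => by
  have := Fact.mk Nat.prime_two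
  obtain ⟨g, -, hg⟩ := hP.exists_conj_le le_top hQ
  obtain ⟨b, hb⟩ := exists_zpowers_eq (isCyclic_of_le' inferInstance
    (inf_le_right : Q ⊓ zpowers (g⁻¹ * a * g⁻¹⁻¹) ≤ _))
  have k : ∀ x ∈ Q, x ∈ zpowers b ↔ g * x * g⁻¹ ∈ zpowers a := fun x hx => by
    rw [hb, mem_inf, and_iff_right hx, ← conj_zpowers, mem_conj, inv_inv]
  have m : ∀ x ∈ Q, g * x * g⁻¹ ∈ P := fun x hx => hg (conj_mem_conj hx)
  refine ⟨b, (hb.le (mem_zpowers b)).1, fun x hx n => ?_, fun x hx y hy n n' => ?_⟩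
  · simpa using h1 _ (m x hx) (mt (k x hx).2 n)
  · rw [k _ (mul_mem hx hy)]
    simpa using h2 _ (m x hx) _ (m y hy) (mt (k x hx).2 n) (mt (k y hy).2 n')

theorem relIndex_dvd {N X : Subgroup G} (h : Core.SubnormalIn N X) (C : Subgroup G) :
    C.relIndex N ∣ C.relIndex X :=
  h.induction (P := fun N => C.relIndex N ∣ C.relIndex X) dvd_rfl fun A B h1 h2 _ h3 => by
    refine Dvd.dvd.trans ?_ h3
    have := (normal_subgroupOf_iff_le_normalizer h1).2 h2
    have h4 := Cls.relIndex_dvd_index_of_normal' (C.subgroupOf B) (A.subgroupOf B)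
    rwa [relIndex_subgroupOf h1] at h4

theorem two_mul_dvd {B C : Subgroup G} (hP : IsPGroup 2 P) (h1 : B ≤ C) {u : G} (hu : u ∈ P ⊓ C)
    (hB : u ∉ B) : 2 * C.relIndex P ∣ B.relIndex P := by
  have := Fact.mk Nat.prime_two
  rw [← inf_eq_left.2 h1, ← relIndex_inf_mul_relIndex B C P]
  refine Nat.mul_dvd_mul_right ?_ _
  obtain ⟨k, hk⟩ := (hP.to_inf_right (H := C)).index (B.subgroupOf (C ⊓ P))
  refine (dvd_pow_self 2 ?_).trans hk.symm.dvd
  rintro rfl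
  exact hB (relIndex_eq_one.1 hk ⟨hu.2, hu.1⟩)

theorem exists_small (hP : Syl 2 P ⊤) (hc : ∀ x ∈ P, ∀ y ∈ P, ⁅x, y⁆ ∈ center G)
    (hs : ¬ Group.IsSolvable G) :
    ∃ x : G, Pr x ∧ ∃ u ∈ P, u ∉ center G ∧ 2 * 𝐂[u].relIndex P ∣ 𝐂[x].index := by
  have := Fact.mk Nat.prime_two
  let f1 : G →* G ⧸ center G := QuotientGroup.mk' (center G)
  let f := (QuotientGroup.mk' (pPrimeCore 2 (G ⧸ center G))).comp f1
  have hf : Function.Surjective f :=
    (QuotientGroup.mk'_surjective _).comp (QuotientGroup.mk'_surjective _)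
  have fz : ∀ z ∈ center G, f z = 1 := fun z hz => by
    rw [MonoidHom.comp_apply, show f1 z = 1 from (QuotientGroup.eq_one_iff z).2 hz, map_one]
  have hb : Wal.Bar ⊤ (P.map f) := ⟨SE.eq_bot_of_odd _ (normalIn_top.1 (Opi_normal _ _)) (odd_O _),
    map_top_of_surjective f hf ▸ hP.map f, ab_iff.2 (by
      rintro _ ⟨x, hx, rfl⟩ _ ⟨y, hy, rfl⟩
      rw [← commutatorElement_eq_one_iff_mul_comm, ← map_commutatorElement, fz _ (hc x hx y hy)])⟩
  have hO : ∀ n ∈ f.ker, ∀ g, ⁅n, g⁆ ∈ O (⊤ : Subgroup G) := fun n hn g => by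
    have hN : f.ker ⊴ ⊤ := normalIn_top.2 inferInstance
    have h1 : P ⊓ f.ker ≤ center G := fun x hx => (QuotientGroup.eq_one_iff x).1
      ((hP.piGrp.piElt hx.1).map f1 |>.eq_one ((odd_iff.1 (SE.odd_core _)).piElt
        ((QuotientGroup.eq_one_iff _).1 hx.2)))
    have h2 := Burnside_normal_complement (hP.inf_normal hN) fun x _ =>
      mem_cent_iff.2 fun y hy => (mem_center_iff.1 (h1 hy) x).symm
    obtain ⟨a, ha, z, hz, rfl⟩ := (mem_sup_norm_left (h2.right_le.trans h2.normal.norm)).1 (h2.sup_eq.ge hn)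
    have h3 : a ∈ O (⊤ : Subgroup G) := le_O (hN.Opi _) (odd_O _) ha
    rw [show ⁅a * z, g⁆ = a * (g * a⁻¹ * g⁻¹) by
      rw [commutatorElement_def, mul_assoc a, ← mem_center_iff.1 (h1 hz) g]; group]
    exact mul_mem h3 (conj_mem_of_norm ((Opi_normal _ _).norm trivial) (inv_mem h3))
  obtain ⟨K, hK⟩ : ∃ K, Wal.Cmp ⊤ K := by
    by_contra! e
    have h1 : P.map f ≤ Op 2 ⊤ := fun g hg => hb.mem_Op trivial
      (cent_anti (Op_le_syl hb.syl) (hb.ab.le_cent hg)) fun K hK => (e K hK).elim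
    have := normalIn_top.1 (Op_normal 2 (⊤ : Subgroup ((G ⧸ center G) ⧸ pPrimeCore 2 (G ⧸ center G))))
    exact hs (Cls.isSolvable_of_normal_of_quotient _ (Cls.isSolvable_of_isMulCommutative inferInstance)
      (Cls.isSolvable_of_normal_of_quotient _ (sol_of_odd (SE.odd_core _))
        (sol_of_index _ (sol_of_isPGroup (Op_isPGroup 2 ⊤)) fun e => hb.syl.not_dvd
          (relIndex_top_right (P.map f) ▸ e.trans (index_dvd_of_le h1)))))
  have hZ := hb.Zc_eq hK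
  obtain ⟨y, hy, ho⟩ := simple_odd (Core.isSimpleGroup_of_isQuasisimple hK.2
    ((map_eq_bot_iff_of_injective _ K.subtype_injective).1 (Zc_eq_map K ▸ hZ))) hK.not_ab
    (.inl (SE.ab2_sub (fun Q => hb.ab_two Q le_top) K))
  obtain ⟨x, e, hx⟩ := Pr.lift hf (y := y) (by simpa [Pr] using Pr.of_prime hy)
  obtain ⟨_, ⟨⟨u, hu, rfl⟩, uK⟩, u1⟩ :=
    exists_mem_ne_one ((hb.syl_inf hK).ne_bot (hb.even hK))
  refine ⟨x, hx, u, hu, fun e => u1 (fz u e), (two_mul_dvd (B := P ⊓ 𝐂(K).comap f) hP.isPGroup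
    (fun b hb => ?_) ⟨hu, mem_cent1_self u⟩ fun e => u1 (mem_bot.1 (hZ.le ⟨uK, e.2⟩))).trans ?_⟩
  · have := normalIn_top.1 (Opi_normal ({2} : Set ℕ)ᶜ (⊤ : Subgroup G))
    have h1 : ⁅⁅K.comap f, zpowers b⁆, K.comap f⁆ ≤ O ⊤ := commutator_le.2 fun n hn g _ => hO n
      ((commutator_le (H₃ := f.ker)).2 (fun r hr c hc => by
        rw [MonoidHom.mem_ker, map_commutatorElement, commutatorElement_eq_one_iff_mul_comm]
        exact mem_cent_iff.1 (zpowers_le.2 hb.2 hc) _ hr) hn) g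
    have h2 := Reg.three_subgroups_of_normal h1 (by rwa [Subgroup.commutator_comm (zpowers b)])
    obtain ⟨r, hr, e⟩ : f u ∈ ⁅K.comap f, K.comap f⁆.map f := by
      rw [Subgroup.map_commutator, map_comap_eq_self_of_surjective hf]
      exact hK.der_eq.ge uK
    have h3 : ⁅u, b⁆ ∈ O (⊤ : Subgroup G) := by
      rw [show ⁅u, b⁆ = r * ⁅r⁻¹ * u, b⁆ * r⁻¹ * ⁅r, b⁆ by simp only [commutatorElement_def]; group]
      exact mul_mem (this.conj_mem _ (hO _ (by simp [e]) b) r)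
        (h2 (commutator_mem_commutator hr (mem_zpowers b)))
    exact mem_cent1.2 (commutatorElement_eq_one_iff_mul_comm.1 ((hP.piGrp.piElt
      (commutator_le_of_le le_rfl le_rfl (commutator_mem_commutator hu hb.1))).eq_one
      ((odd_iff.1 (odd_O _)).piElt h3))).symm
  have hn := hb.le_norm hK
  have h1 : (P ⊓ 𝐂(K).comap f).relIndex P ∣ ♯(P.map f ⊓ K) := by
    rw [inf_relIndex_left, relIndex_comap, ← inf_relIndex_left]
    nth_rewrite 2 [← le_antisymm (sup_le inf_le_left inf_le_left) (hb.le_sup hK.1 hn)]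
    rw [relIndex_sup_eq (.inl (inf_le_left.trans (le_norm_of_ab hb.ab inf_le_left)))]
    exact relIndex_dvd_card _ _
  obtain ⟨k, hk⟩ := (hb.syl_inf hK).isPGroup.exists_card_eq
  refine h1.trans ((hk ▸ dvd_index ho (hk ▸ card_dvd inf_le_right)).trans ?_)
  rw [Cls.index_centralizer_subgroup, ← e]
  exact (relIndex_dvd hK.1 _).trans ((relIndex_top_right _).dvd.trans (Cls.index_centralizer_map_dvd hf x))

end Cfsg.Agent.CS2
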